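import Cfsg.Agent.Lib.SLSmall.OrthBasic
import Cfsg.Agent.Lib.TransvMax.UnitarySim
import Mathlib.FieldTheory.ChevalleyWarning

/-!
The similitude group of a quadratic form in odd characteristic is maximal in the special linear group.
-/

set_option autoImplicit false

namespace Cfsg.Agent.SLSmall

open scoped Matrix MatrixGroups
open Cfsg.Agent Cfsg.Agent.TransvMax

variable {ι : Type} [Fintype ι] [DecidableEq ι] {F : Type*} [Field F] [Finite F]
  {Q : QuadraticForm F (ι → F)}

/-- Two commutation defects: the group commutator is a transvection. -/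
theorem exists_commutator_trv {K : Subgroup (GL ι F)} {A B : GL ι F} (hA : A ∈ K) (hB : B ∈ K)
    {u χ : ι → F} (hu : χ ⬝ᵥ u = 0)
    (hχ : ∀ x, χ ⬝ᵥ ((B : Matrix ι ι F) *ᵥ ((A : Matrix ι ι F) *ᵥ x)) = χ ⬝ᵥ x)
    (h : ∀ x, (A : Matrix ι ι F) *ᵥ ((B : Matrix ι ι F) *ᵥ x) =
      (B : Matrix ι ι F) *ᵥ ((A : Matrix ι ι F) *ᵥ x) + (χ ⬝ᵥ x) • u) :
    trv u χ hu ∈ K := by
  have : trv u χ hu = A * B * (B * A)⁻¹ := by
    rw [eq_mul_inv_iff_mul_eq]
    refine gl_ext fun x => ?_
    simp only [Units.val_mul, ← Matrix.mulVec_mulVec, trv_mulVec]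
    rw [h, hχ]
  rw [this]
  exact K.mul_mem (K.mul_mem hA hB) (K.inv_mem (K.mul_mem hB hA))

/-- The row vector representing `x ↦ f x v`. -/
noncomputable def oRow (_S : OSetTen Q) (v : ι → F) : ι → F := fun j => pB Q (Pi.single j 1) v

variable (S : OSetTen Q)
include S

omit [Finite F] in
theorem oRow_dot (v x : ι → F) : oRow S v ⬝ᵥ x = pB Q x v := by
  conv_rhs => rw [pi_eq_sum_univ' x]
  rw [map_sum, LinearMap.sum_apply]
  simp [dotProduct, oRow, mul_comm]

theorem exists_oRow (φ : ι → F) : ∃ b, φ = oRow S b := by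
  have hinj : Function.Injective (oRow S) := fun v w h =>
    S.eq_of_forall fun x => by rw [← oRow_dot S, ← oRow_dot S, h]
  obtain ⟨b, hb⟩ := Finite.injective_iff_surjective.1 hinj φ
  exact ⟨b, hb.symm⟩

theorem exists_pB_rep (ψ : (ι → F) →ₗ[F] F) : ∃ b, ∀ x, ψ x = pB Q x b := by
  obtain ⟨b, hb⟩ := exists_oRow S fun j => ψ (Pi.single j 1)
  refine ⟨b, fun x => ?_⟩
  rw [← oRow_dot S, ← hb]
  conv_lhs => rw [pi_eq_sum_univ' x]
  simp [dotProduct, mul_comm]

theorem sing_indep_pair {a b : ι → F} (ha : a ≠ 0) (hb : b ∉ Submodule.span F {a}) :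
    LinearIndependent F ![b, a] :=
  linearIndependent_finCons.2 ⟨by simp [linearIndependent_unique_iff, ha], by simpa using hb⟩

theorem exists_sing_ne_zero : ∃ u : ι → F, Q u = 0 ∧ u ≠ 0 := by
  obtain ⟨i⟩ : Nonempty ι := Fintype.card_pos_iff.mp (by have := S.dim; omega)
  obtain ⟨u, hu, hu1⟩ := S.exists_sing_values (v := ![(Pi.single i 1 : ι → F)])
    (by simp [linearIndependent_unique_iff]) (by omega) ![1]
  exact ⟨u, hu, fun e => by simpa [e] using hu1 0⟩

theorem exists_proper_quadSim :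
    ¬ Cfsg.Geo.specialLinear ι F ≤ Cfsg.Geo.quadSimilarityGroup ⇑Q := by
  intro hle
  obtain ⟨a, haQ, ha⟩ := exists_sing_ne_zero S
  have haa : pB Q a a = 0 := by rw [S.pB_self, haQ, mul_zero]
  obtain ⟨b, hba, -, hbs⟩ := S.exists_perp_not_mem a a (Submodule.span F {a})
    (by rw [finrank_span_singleton ha]; omega)
  have hab : pB Q a b = 0 := by rw [S.pB_comm, hba]
  obtain ⟨x, hx⟩ := S.exists_values (sing_indep_pair S ha hbs) ![1, 0]
  obtain ⟨y, hy⟩ := S.exists_values (v := ![a]) (by simp [linearIndependent_unique_iff, ha]) ![1]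
  obtain ⟨c, hc⟩ := hle (trv_mem_specialLinear a (oRow S b) (by rw [oRow_dot, hab]))
  have hay : pB Q a y = 1 := by rw [S.pB_comm]; exact hy 0
  have hxb : pB Q x b = 1 := hx 0
  have hxa : pB Q x a = 0 := hx 1
  set T : GL ι F := trv a (oRow S b) (by rw [oRow_dot, hab]) with hT
  have hp : ∀ p r, pB Q ((T : Matrix ι ι F) *ᵥ p) ((T : Matrix ι ι F) *ᵥ r) = c * pB Q p r := by
    intro p r
    simp only [QuadraticMap.polarBilin_apply_apply, QuadraticMap.polar, ← Matrix.mulVec_add, hc]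
    ring
  have h1 := hp a y
  rw [trv_mulVec, trv_mulVec, oRow_dot, oRow_dot, hab, zero_smul, add_zero, map_add, map_smul, haa,
    smul_zero, add_zero, hay, mul_one] at h1
  have h2 := hp x y
  rw [trv_mulVec, trv_mulVec, oRow_dot, oRow_dot, hxb, one_smul] at h2
  simp only [map_add, map_smul, LinearMap.add_apply, hxa, haa, hay, ← h1, one_mul, smul_zero,
    add_zero] at h2
  exact one_ne_zero (add_eq_left.1 h2)

/-- One transvection spreads to all transvections with the same centre. -/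
theorem fullCentre_of_quad {K : Subgroup (GL ι F)}
    (hK : Cfsg.Geo.quadSimilarityGroup ⇑Q ⊓ Cfsg.Geo.specialLinear ι F ≤ K) {a b : ι → F}
    (ha : a ≠ 0) (hb : b ∉ Submodule.span F {a}) (h : oRow S b ⬝ᵥ a = 0)
    (hm : trv a (oRow S b) h ∈ K) : FullCentre K a := by
  have hab : pB Q a b = 0 := by rw [← oRow_dot S, h]
  let Z : Set (ι → F) := {y | pB Q a y = 0 ∧ ∀ h, trv a (oRow S y) h ∈ K}
  have hbZ : b ∈ Z := ⟨hab, fun _ => hm⟩
  have hadd : ∀ y ∈ Z, ∀ z ∈ Z, y + z ∈ Z := by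
    rintro y ⟨hy, hy'⟩ z ⟨hz, hz'⟩
    refine ⟨by rw [map_add, hy, hz, add_zero], fun h' => ?_⟩
    have := K.mul_mem (hy' (by rw [oRow_dot, hy])) (hz' (by rw [oRow_dot, hz]))
    rw [trv_mul_trv] at this
    convert this using 1
    refine gl_ext fun x => ?_
    rw [trv_mulVec, trv_mulVec, add_dotProduct, oRow_dot, oRow_dot, oRow_dot, map_add]
  have hneg : ∀ y ∈ Z, -y ∈ Z := by
    rintro y ⟨hy, hy'⟩
    refine ⟨by rw [map_neg, hy, neg_zero], fun h' => ?_⟩
    have := K.inv_mem (hy' (by rw [oRow_dot, hy]))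
    convert this using 1
    refine gl_ext fun x => ?_
    rw [show (((trv a (oRow S y) (by rw [oRow_dot, hy]))⁻¹ : GL ι F) : Matrix ι ι F) =
      1 - Matrix.vecMulVec a (oRow S y) from rfl, trv_mulVec, Matrix.sub_mulVec,
      Matrix.one_mulVec, Matrix.vecMulVec_mulVec, op_smul_eq_smul, oRow_dot, oRow_dot,
      map_neg, neg_smul, sub_eq_add_neg]
  -- a half of any member
  have hhalf : ∀ y, y + y ∈ Z → y ∈ Z := by
    intro y hy
    obtain ⟨p, hp⟩ := CharP.exists F
    have hnat : ∀ n : ℕ, (n : F) • (y + y) ∈ Z := by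
      intro n
      induction n with
      | zero =>
        rw [Nat.cast_zero, zero_smul, ← add_neg_cancel b]
        exact hadd _ hbZ _ (hneg b hbZ)
      | succ n ih => rw [Nat.cast_succ, add_smul, one_smul]; exact hadd _ ih _ hy
    have hp2 : p ≠ 2 := fun e => S.odd (by rw [← e]; exact ringChar.eq F p)
    have hodd : p % 2 = 1 := (CharP.char_is_prime F p).eq_two_or_odd.resolve_left hp2
    have h1 := hnat ((p + 1) / 2)
    have h2 : (((p + 1) / 2 : ℕ) : F) • (y + y) = y := by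
      rw [← two_smul F y, smul_smul, show (2 : F) = ((2 : ℕ) : F) by norm_num, ← Nat.cast_mul,
        show (p + 1) / 2 * 2 = p + 1 by omega, Nat.cast_succ, CharP.cast_eq_zero, zero_add, one_smul]
    rwa [h2] at h1
  have hE : ∀ y ∈ Z, ∀ u w, Q u = 0 → pB Q w u = 0 → pB Q u a = 0 → pB Q w a = 0 →
      siegelHom Q u w y ∈ Z := by
    rintro y ⟨hy, hy'⟩ u w hu hw hua hwa
    have ht := hK (S.glOf_siegel_mem hu hw)
    set T : GL ι F := glOf (S.siegel u w hu hw)
    have hTiso : ∀ p r, pB Q ((T : Matrix ι ι F) *ᵥ p) ((T : Matrix ι ι F) *ᵥ r) = pB Q p r := by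
      intro p r
      simp only [T, glOf_mulVec, QuadraticMap.polarBilin_apply_apply, QuadraticMap.polar, ← map_add,
        S.siegel_quad]
    have hTa : (T : Matrix ι ι F) *ᵥ a = a := by
      rw [glOf_mulVec, S.siegel_apply, siegelHom_apply, S.pB_comm a u, hua, S.pB_comm a w, hwa]
      simp
    have hTy : (T : Matrix ι ι F) *ᵥ y = siegelHom Q u w y := by rw [glOf_mulVec, S.siegel_apply]
    rw [← hTy]
    refine ⟨by conv_lhs => rw [← hTa, hTiso, hy], fun h' => ?_⟩
    have := K.mul_mem (K.mul_mem ht (hy' (by rw [oRow_dot, hy]))) (K.inv_mem ht)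
    convert this using 1
    refine gl_ext fun x => ?_
    rw [Units.val_mul, Units.val_mul, ← Matrix.mulVec_mulVec, ← Matrix.mulVec_mulVec, trv_mulVec,
      trv_mulVec, Matrix.mulVec_add, Matrix.mulVec_smul, mulVec_inv_mulVec, hTa, oRow_dot, oRow_dot]
    congr 2
    conv_lhs => rw [← mulVec_inv_mulVec T x, hTiso]
  have hlin : ∀ y ∈ Z, ∀ u w, Q u = 0 → pB Q w u = 0 → pB Q u a = 0 → pB Q w a = 0 →
      pB Q y u • w - pB Q y w • u ∈ Z ∧ (Q w * pB Q y u) • u ∈ Z := by
    intro y hy u w hu hw hua hwa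
    have h1 := hE y hy u w hu hw hua hwa
    have h2 := hE y hy u (-w) hu (by simp [hw]) hua (by simp [hwa])
    constructor
    · refine hhalf _ ?_
      convert hadd _ h1 _ (hneg _ h2) using 1
      simp only [siegelHom_apply, QuadraticMap.map_neg, map_neg, LinearMap.neg_apply]
      module
    · refine hhalf _ ?_
      convert hadd _ (hadd _ hy _ (hneg _ h1)) _ (hadd _ hy _ (hneg _ h2)) using 1
      simp only [siegelHom_apply, QuadraticMap.map_neg, map_neg, LinearMap.neg_apply]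
      module
  let W : Submodule F (ι → F) :=
    { carrier := {y | ∀ c : F, c • y ∈ Z}
      add_mem' := fun {x y} hx hy c => by rw [smul_add]; exact hadd _ (hx c) _ (hy c)
      zero_mem' := fun c => by
        rw [smul_zero, ← add_neg_cancel b]
        exact hadd _ hbZ _ (hneg b hbZ)
      smul_mem' := fun c x hx d => by rw [smul_smul]; exact hx _ }
  -- a member of `W` outside the line of `a`
  obtain ⟨u, hu, hu'⟩ := S.exists_sing_values (sing_indep_pair S ha hb) (by omega) ![1, 0]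
  have hub : pB Q b u = 1 := by rw [S.pB_comm]; exact hu' 0
  have hua : pB Q u a = 0 := hu' 1
  have hu0 : u ≠ 0 := fun e => by simp [e] at hub
  obtain ⟨w, hw, hwQ⟩ := S.exists_aniso_perp_pair ![u, a, b] le_rfl 2 0 (by
    show pB Q b u ≠ 0
    rw [hub]; exact one_ne_zero)
  have hwW : w ∈ W := fun c => by
    have h1 := (hlin b hbZ u (c • w) hu (by simp [show pB Q w u = 0 from hw 0]) hua
      (by simp [show pB Q w a = 0 from hw 1])).1
    rwa [hub, one_smul, map_smul, S.pB_comm b w, show pB Q w b = 0 from hw 2, smul_zero, zero_smul,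
      sub_zero] at h1
  have hws : w ∉ Submodule.span F {a} := fun hs => by
    obtain ⟨s, rfl⟩ := Submodule.mem_span_singleton.1 hs
    have h1 : pB Q (s • a) a = 0 := hw 1
    rcases eq_or_ne s 0 with rfl | hs0
    · simp at hwQ
    · rw [map_smul, LinearMap.smul_apply, S.pB_self, smul_eq_mul, mul_eq_zero] at h1
      refine hwQ ?_
      rw [S.quad_smul, (mul_eq_zero.1 (h1.resolve_left hs0)).resolve_left S.two_ne, mul_zero]
  obtain ⟨v, hv, hv'⟩ := S.exists_sing_values (sing_indep_pair S ha hws) (by omega) ![1, 0]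
  have hvw : pB Q w v = 1 := by rw [S.pB_comm]; exact hv' 0
  have hva : pB Q v a = 0 := hv' 1
  have hv0 : v ≠ 0 := fun e => by simp [e] at hvw
  have hvW : v ∈ W := by
    obtain ⟨z, hz, hzQ⟩ := S.exists_aniso_perp ![v, a] (by omega)
    intro c
    have h1 := (hlin _ (hwW (c / Q z)) v z hv (hz 0) hva (hz 1)).2
    rwa [map_smul, LinearMap.smul_apply, hvw, smul_eq_mul, mul_one, mul_div_cancel₀ _ hzQ] at h1
  have hperp : ∀ z, pB Q z v = 0 → pB Q z a = 0 → z ∈ W := by
    intro z hzv hza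
    have h1 : z - pB Q w z • v ∈ W := fun c => by
      have h2 := (hlin _ (hwW c) v z hv hzv hva hza).1
      convert h2 using 1
      simp only [map_smul, LinearMap.smul_apply, hvw, smul_eq_mul, mul_one, smul_sub, smul_smul]
    simpa using W.add_mem h1 (W.smul_mem (pB Q w z) hvW)
  intro φ hφ
  obtain ⟨y, rfl⟩ := exists_oRow S φ
  have hay : pB Q a y = 0 := by rw [← oRow_dot S, hφ]
  have hwa : pB Q w a = 0 := hw 1
  have hyW : y ∈ W := by
    have h1 : y - pB Q y v • w ∈ W := hperp _ (by simp [hvw]) (by simp [hwa, S.pB_comm y a, hay])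
    simpa using W.add_mem h1 (W.smul_mem (pB Q y v) hwW)
  have h1 := hyW 1
  rw [one_smul] at h1
  exact h1.2 hφ

/-- One transvection in an overgroup gives all of them. -/
theorem specialLinear_le_of_quad {K : Subgroup (GL ι F)}
    (hK : Cfsg.Geo.quadSimilarityGroup ⇑Q ⊓ Cfsg.Geo.specialLinear ι F ≤ K) {a φ : ι → F}
    (h : φ ⬝ᵥ a = 0) (hm : trv a φ h ∈ K) (hne : ∃ x, (φ ⬝ᵥ x) • a ≠ 0) :
    Cfsg.Geo.specialLinear ι F ≤ K := by
  obtain ⟨x₀, hx₀⟩ := hne
  have ha : a ≠ 0 := fun e => hx₀ (by rw [e, smul_zero])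
  obtain ⟨b, rfl⟩ := exists_oRow S φ
  have hab : pB Q a b = 0 := by rw [← oRow_dot S, h]
  have hb0 : b ≠ 0 := fun e => hx₀ (by rw [oRow_dot, e, map_zero, zero_smul])
  obtain ⟨a', hfull, ha'⟩ : ∃ a', FullCentre K a' ∧ a' ≠ 0 := by
    by_cases hb : b ∈ Submodule.span F {a}
    · obtain ⟨s, rfl⟩ := Submodule.mem_span_singleton.1 hb
      have hs : s ≠ 0 := fun e => hb0 (by rw [e, zero_smul])
      have haa : pB Q a a = 0 := by
        rw [map_smul, smul_eq_mul, mul_eq_zero] at hab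
        exact hab.resolve_left hs
      have haQ : Q a = 0 := by
        rw [S.pB_self, mul_eq_zero] at haa
        exact haa.resolve_left S.two_ne
      obtain ⟨u, hu, hu1⟩ := S.exists_sing_values (v := ![a])
        (by simp [linearIndependent_unique_iff, ha]) (by omega) ![1]
      have hau : pB Q a u = 1 := by rw [S.pB_comm]; exact hu1 0
      obtain ⟨w, hw, hwQ⟩ := S.exists_aniso_perp ![u, a] (by omega)
      have hwu : pB Q w u = 0 := hw 0
      have haw : pB Q a w = 0 := by rw [S.pB_comm]; exact hw 1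
      have ht := hK (S.glOf_siegel_mem hu hwu)
      set T : GL ι F := glOf (S.siegel u w hu hwu)
      have hTiso : ∀ p r, pB Q ((T : Matrix ι ι F) *ᵥ p) ((T : Matrix ι ι F) *ᵥ r) = pB Q p r := by
        intro p r
        simp only [T, glOf_mulVec, QuadraticMap.polarBilin_apply_apply, QuadraticMap.polar, ← map_add,
          S.siegel_quad]
      set a₁ := (T : Matrix ι ι F) *ᵥ a with ha₁
      have haa₁ : pB Q a a₁ = -Q w := by
        rw [ha₁, glOf_mulVec, S.siegel_apply, siegelHom_apply, hau, haw, map_sub, map_sub, map_add,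
          map_smul, map_smul, map_smul, haa, haw, hau]
        simp
      have hT₁dot : oRow S (s • a₁) ⬝ᵥ a₁ = 0 := by
        rw [oRow_dot, map_smul, ha₁, hTiso, haa, smul_zero]
      have hT₁ : trv a₁ (oRow S (s • a₁)) hT₁dot ∈ K := by
        have h1 := K.mul_mem (K.mul_mem ht hm) (K.inv_mem ht)
        convert h1 using 1
        refine gl_ext fun x => ?_
        rw [Units.val_mul, Units.val_mul, ← Matrix.mulVec_mulVec, ← Matrix.mulVec_mulVec, trv_mulVec,
          trv_mulVec, Matrix.mulVec_add, Matrix.mulVec_smul, mulVec_inv_mulVec, oRow_dot, oRow_dot]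
        congr 2
        rw [map_smul, map_smul]
        congr 1
        conv_lhs => rw [ha₁, ← mulVec_inv_mulVec T x, hTiso]
      set R : GL ι F := trv a (oRow S (s • a)) h with hR
      set a₂ := (R : Matrix ι ι F) *ᵥ a₁ with ha₂
      obtain ⟨b₂, hb₂⟩ := exists_oRow S
        (Matrix.vecMul (oRow S (s • a₁)) ((R⁻¹ : GL ι F) : Matrix ι ι F))
      have hdot := vecMul_inv_dot R a₁ (oRow S (s • a₁))
      rw [hT₁dot] at hdot
      have h2 := K.mul_mem (K.mul_mem hm hT₁) (K.inv_mem hm)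
      rw [conj_trv R a₁ _ _ hdot] at h2
      have hdot2 : oRow S b₂ ⬝ᵥ a₂ = 0 := by rw [← hb₂]; exact hdot
      have h3 : trv a₂ (oRow S b₂) hdot2 ∈ K := by
        convert h2 using 2
        exact hb₂.symm
      have ha₁0 : a₁ ≠ 0 := fun e => hwQ (by simpa [e] using haa₁.symm)
      have ha₁Q : Q a₁ = 0 := by rw [ha₁, glOf_mulVec, S.siegel_quad, haQ]
      have ha₂Q : Q a₂ ≠ 0 := by
        rw [ha₂, trv_mulVec, oRow_dot, map_smul, S.quad_add, S.quad_smul, ha₁Q, haQ, map_smul,
          S.pB_comm a₁ a, haa₁]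
        simp [hs, hwQ]
      have ha₂0 : a₂ ≠ 0 := fun e => ha₂Q (by rw [e, QuadraticMap.map_zero])
      refine ⟨a₂, fullCentre_of_quad S hK ha₂0 (fun hb₂s => ?_) hdot2 h3, ha₂0⟩
      obtain ⟨r, hr⟩ := Submodule.mem_span_singleton.1 hb₂s
      have hdot' := hdot2
      rw [oRow_dot, ← hr, map_smul, S.pB_self, smul_eq_mul] at hdot'
      have hr0 : r ≠ 0 := by
        rintro rfl
        rw [zero_smul] at hr
        obtain ⟨x, hx⟩ := S.exists_values (v := ![a₁])
          (by simp [linearIndependent_unique_iff, ha₁0]) ![1]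
        have h5 : oRow S (s • a₁) ⬝ᵥ x = oRow S b₂ ⬝ᵥ ((R : Matrix ι ι F) *ᵥ x) := by
          rw [← hb₂, ← Matrix.dotProduct_mulVec, inv_mulVec_mulVec]
        rw [oRow_dot, oRow_dot, ← hr, map_zero, map_smul, show pB Q x a₁ = 1 from hx 0] at h5
        exact hs (by simpa using h5)
      exact ha₂Q ((mul_eq_zero.1 ((mul_eq_zero.1 hdot').resolve_left hr0)).resolve_left S.two_ne)
    · exact ⟨a, fullCentre_of_quad S hK ha hb h hm, ha⟩
  refine specialLinear_le_of_trv ?_
  let W : Submodule F (ι → F) :=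
    { carrier := {x | FullCentre K x}
      zero_mem' := fun φ h => by
        convert K.one_mem
        exact gl_ext fun x => by simp [trv_mulVec]
      smul_mem' := fun c x hx => trv_mem_smul_left hx c
      add_mem' := fun {x y} hx hy => by
        show FullCentre K (x + y)
        by_cases hx0 : x = 0
        · rwa [hx0, zero_add]
        by_cases hys : y ∈ Submodule.span F {x}
        · obtain ⟨s, rfl⟩ := Submodule.mem_span_singleton.1 hys
          rw [show x + s • x = (1 + s) • x by rw [add_smul, one_smul]]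
          exact trv_mem_smul_left hx _
        obtain ⟨z, hz⟩ := S.exists_values (sing_indep_pair S hx0 hys) ![1, 0]
        have hxz : pB Q x z = 0 := by rw [S.pB_comm]; exact hz 1
        have h1 := hy.map (hx (oRow S z) (by rw [oRow_dot, hxz]))
        rwa [trv_mulVec, oRow_dot, S.pB_comm y z, show pB Q z y = 1 from hz 0, one_smul, add_comm]
          at h1 }
  have haW : a' ∈ W := hfull
  obtain ⟨u, hu, hu1⟩ := S.exists_sing_values (v := ![a'])
    (by simp [linearIndependent_unique_iff, ha']) (by omega) ![1]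
  have hau : pB Q a' u = 1 := by rw [S.pB_comm]; exact hu1 0
  have hgen : ∀ w, pB Q w u = 0 → pB Q w a' = 0 → w ∈ W ∧ Q w • u ∈ W := by
    intro w hwu hwa
    have hm' : ∀ w, pB Q w u = 0 → pB Q w a' = 0 → a' + w - Q w • u ∈ W := by
      intro w hwu hwa
      have h1 : (glOf (S.siegel u w hu hwu) : Matrix ι ι F) *ᵥ a' ∈ W :=
        hfull.map (hK (S.glOf_siegel_mem hu hwu))
      rwa [glOf_mulVec, S.siegel_apply, siegelHom_apply, hau, S.pB_comm a' w, hwa, one_smul,
        zero_smul, sub_zero, mul_one] at h1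
    have h1 := hm' w hwu hwa
    have h2 := hm' (-w) (by simp [hwu]) (by simp [hwa])
    have hw1 : w ∈ W := by
      have h3 := W.smul_mem (2 : F)⁻¹ (W.sub_mem h1 h2)
      have e : (a' + w - Q w • u) - (a' + -w - Q (-w) • u) = (2 : F) • w := by
        rw [QuadraticMap.map_neg]; module
      rwa [e, smul_smul, inv_mul_cancel₀ S.two_ne, one_smul] at h3
    refine ⟨hw1, ?_⟩
    have := W.sub_mem (W.add_mem haW hw1) h1
    simpa using this
  have huW : u ∈ W := by
    obtain ⟨w, hw, hwQ⟩ := S.exists_aniso_perp ![u, a'] (by omega)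
    have := W.smul_mem (Q w)⁻¹ (hgen w (hw 0) (hw 1)).2
    rwa [smul_smul, inv_mul_cancel₀ hwQ, one_smul] at this
  intro x φ hφ
  suffices hx : x ∈ W from hx φ hφ
  have hrest : x - pB Q x u • a' - (pB Q x a' - pB Q x u * pB Q a' a') • u ∈ W := by
    refine (hgen _ ?_ ?_).1
    · simp [hau, S.pB_self u, hu]
    · simp [S.pB_comm u a', hau]
  have := W.add_mem (W.add_mem hrest (W.smul_mem (pB Q x u) haW))
    (W.smul_mem (pB Q x a' - pB Q x u * pB Q a' a') huW)
  convert this using 1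
  module

/-- A common singular vector. -/
theorem exists_common_singular (g : (ι → F) ≃ₗ[F] (ι → F)) :
    ∃ u, u ≠ 0 ∧ Q u = 0 ∧ Q (g u) = 0 := by
  classical
  haveI := Fintype.ofFinite F
  obtain ⟨p, hp⟩ := CharP.exists F
  have hpp : p.Prime := CharP.char_is_prime F p
  haveI := hp
  -- coordinates
  let M : Bool → ι → ι → F := fun z i j => if z then pB Q (g (Pi.single i 1)) (g (Pi.single j 1)) else pB Q (Pi.single i 1) (Pi.single j 1)
  let f : Bool → MvPolynomial ι F := fun z => ∑ i, ∑ j, MvPolynomial.C (M z i j) * (MvPolynomial.X i * MvPolynomial.X j)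
  have hdeg : ∀ z, (f z).totalDegree ≤ 2 := fun z => MvPolynomial.totalDegree_finsetSum_le fun i _ =>
    MvPolynomial.totalDegree_finsetSum_le fun j _ => (MvPolynomial.totalDegree_mul _ _).trans (by
      rw [MvPolynomial.totalDegree_C, zero_add]
      exact (MvPolynomial.totalDegree_mul _ _).trans (by simp [MvPolynomial.totalDegree_X]))
  have hexp : ∀ (L : (ι → F) →ₗ[F] (ι → F)) (x : ι → F),
      ∑ i, ∑ j, pB Q (L (Pi.single i 1)) (L (Pi.single j 1)) * (x i * x j) = 2 * Q (L x) := by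
    intro L x
    rw [← S.pB_self]
    conv_rhs => rw [pi_eq_sum_univ' x]
    simp only [map_sum, map_smul, LinearMap.sum_apply, LinearMap.smul_apply, smul_eq_mul, Finset.mul_sum]
    rw [Finset.sum_comm]
    refine Finset.sum_congr rfl fun i _ => Finset.sum_congr rfl fun j _ => ?_
    rw [S.pB_comm (L (Pi.single j 1))]
    ring
  have hev : ∀ x, (MvPolynomial.eval x (f true) = 2 * Q (g x)) ∧ MvPolynomial.eval x (f false) = 2 * Q x := fun x => by
    constructor
    · refine Eq.trans ?_ (hexp (g : (ι → F) →ₗ[F] (ι → F)) x)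
      simp [f, M]
    · refine Eq.trans ?_ (hexp LinearMap.id x)
      simp [f, M]
  have hdvd' := char_dvd_card_solutions_of_fintype_sum_lt (K := F) p (f := f) (by
    rw [Fintype.sum_bool]; have := hdeg true; have := hdeg false; have := S.dim; omega)
  have hz : ∀ i : Bool, MvPolynomial.eval (0 : ι → F) (f i) = 0 := fun i => by
    cases i
    · exact (hev 0).2.trans (by simp)
    · exact (hev 0).1.trans (by simp)
  haveI : Nonempty { x : ι → F // ∀ i, MvPolynomial.eval x (f i) = 0 } := ⟨⟨0, hz⟩⟩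
  have hdvd : p ∣ Nat.card { x : ι → F // ∀ i, MvPolynomial.eval x (f i) = 0 } := by
    rw [Fintype.card_eq_nat_card] at hdvd'
    exact hdvd'
  have h1 : 1 < Nat.card { x : ι → F // ∀ i, MvPolynomial.eval x (f i) = 0 } :=
    lt_of_lt_of_le hpp.one_lt (Nat.le_of_dvd Nat.card_pos hdvd)
  haveI := Finite.one_lt_card_iff_nontrivial.1 h1
  obtain ⟨x, hx⟩ := exists_ne (⟨0, hz⟩ : { x : ι → F // ∀ i, MvPolynomial.eval x (f i) = 0 })
  refine ⟨x.1, fun e => hx (Subtype.ext e), ?_, ?_⟩
  · have := x.2 false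
    rw [(hev x.1).2] at this
    exact (mul_eq_zero.1 this).resolve_left S.two_ne
  · have := x.2 true
    rw [(hev x.1).1] at this
    exact (mul_eq_zero.1 this).resolve_left S.two_ne

/-- The similitude group of a quadratic form is maximal in the special linear group. -/
theorem quadSim_maximal :
    Cfsg.Geo.IsMaximalIn (Cfsg.Geo.specialLinear ι F)
      (Cfsg.Geo.quadSimilarityGroup ⇑Q ⊓ Cfsg.Geo.specialLinear ι F) := by
  refine ⟨lt_of_le_of_ne inf_le_right fun e => exists_proper_quadSim S ?_, fun K hHK hKS => ?_⟩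
  · rw [← e]; exact inf_le_left
  rcases hHK.eq_or_lt with e | hlt
  · exact Or.inl e.symm
  refine Or.inr (le_antisymm hKS ?_)
  by_contra hSL
  have hnone : ∀ (v φ : ι → F) (h : φ ⬝ᵥ v = 0), trv v φ h ∈ K → ∀ x, (φ ⬝ᵥ x) • v = 0 := by
    intro v φ h hm x
    by_contra hx
    exact hSL (specialLinear_le_of_quad S hHK h hm ⟨x, hx⟩)
  obtain ⟨g, hgK, hgH⟩ := SetLike.exists_of_lt hlt
  refine hgH ⟨?_, hKS hgK⟩
  set γ : (ι → F) ≃ₗ[F] (ι → F) := linOf g⁻¹ with hγ
  -- the rigidity at a common singular vector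
  have hP : ∀ u, u ≠ 0 → Q u = 0 → Q (γ u) = 0 → ∃ α : F,
      (∀ x, pB Q (γ x) (γ u) = α * pB Q x u) ∧
        ∀ w w', pB Q w u = 0 → pB Q w' u = 0 → pB Q (γ w) (γ w') = α * pB Q w w' := by
    intro u hu0 hu hu'
    have huu : pB Q u u = 0 := by rw [S.pB_self, hu, mul_zero]
    have huu' : pB Q (γ u) (γ u) = 0 := by rw [S.pB_self, hu', mul_zero]
    obtain ⟨r, hr⟩ := exists_pB_rep S (((pB Q).flip (γ u)).comp (γ : (ι → F) →ₗ[F] (ι → F)))
    have hr' : ∀ x, pB Q (γ x) (γ u) = pB Q x r := hr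
    have key : ∀ w w', pB Q w u = 0 → pB Q w r = 0 → pB Q w' u = 0 → pB Q w' r = 0 →
        ∀ x, pB Q (γ w) (γ w') * pB Q x u - pB Q w w' * pB Q x r = 0 := by
      intro w w' hwu hwr hw'u hw'r
      have hw'r' : pB Q (γ w') (γ u) = 0 := by rw [hr', hw'r]
      have hA := hHK (S.glOf_siegel_mem hu hwu)
      have hB := hHK (S.glOf_siegel_mem hu' hw'r')
      set χ := oRow S (pB Q (γ w) (γ w') • u - pB Q w w' • r) with hχ
      have hχx : ∀ x, χ ⬝ᵥ x = pB Q (γ w) (γ w') * pB Q x u - pB Q w w' * pB Q x r := fun x => by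
        rw [hχ, oRow_dot, map_sub, map_smul, map_smul, smul_eq_mul, smul_eq_mul]
      have hru : pB Q u r = 0 := by rw [← hr', huu']
      have hχu : χ ⬝ᵥ u = 0 := by rw [hχx, huu, hru]; ring
      set A : GL ι F := glOf (S.siegel u w hu hwu)
      set B : GL ι F := g * glOf (S.siegel (γ u) (γ w') hu' hw'r') * g⁻¹ with hBdef
      have hgγ : ∀ z, (g : Matrix ι ι F) *ᵥ (γ z) = z := fun z => by
        rw [hγ, linOf_apply, mulVec_inv_mulVec]
      have hBap : ∀ x, (B : Matrix ι ι F) *ᵥ x = x + pB Q (γ x) (γ u) • w' -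
          pB Q (γ x) (γ w') • u - (Q (γ w') * pB Q (γ x) (γ u)) • u := by
        intro x
        rw [hBdef, Units.val_mul, Units.val_mul, ← Matrix.mulVec_mulVec, ← Matrix.mulVec_mulVec,
          glOf_mulVec, show ((g⁻¹ : GL ι F) : Matrix ι ι F) *ᵥ x = γ x from rfl, S.siegel_apply,
          siegelHom_apply, Matrix.mulVec_sub, Matrix.mulVec_sub, Matrix.mulVec_add, Matrix.mulVec_smul,
          Matrix.mulVec_smul, Matrix.mulVec_smul, hgγ, hgγ, hgγ]
      have hAap : ∀ x, (A : Matrix ι ι F) *ᵥ x = x + pB Q x u • w - pB Q x w • u -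
          (Q w * pB Q x u) • u := fun x => by
        rw [glOf_mulVec, S.siegel_apply, siegelHom_apply]
      have hm : trv u χ hχu ∈ K := exists_commutator_trv (A := A) (B := B) hA
        (K.mul_mem (K.mul_mem hgK hB) (K.inv_mem hgK)) hχu (fun x => by
          simp only [hχx, hBap, hAap, map_add, map_sub, map_smul, LinearMap.add_apply,
            LinearMap.sub_apply, LinearMap.smul_apply, smul_eq_mul, huu, hwu, hw'u, hru, hwr, hw'r,
            hr']
          ring) (fun x => by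
          simp only [hχx, hBap, hAap, map_add, map_sub, map_smul, LinearMap.add_apply,
            LinearMap.sub_apply, LinearMap.smul_apply, smul_eq_mul, huu, hwu, hw'u, hru, hwr, hw'r,
            hr', S.pB_comm w' w, S.pB_comm u w, S.pB_comm (γ u) (γ w')]
          module)
      intro x
      rw [← hχx]
      simpa [hu0] using hnone u χ hχu hm x
    obtain ⟨w₀, hw₀, hw₀Q⟩ := S.exists_aniso_perp ![u, r] (by omega)
    have hB0 : pB Q w₀ w₀ ≠ 0 := by rw [S.pB_self]; exact mul_ne_zero S.two_ne hw₀Q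
    set α := pB Q (γ w₀) (γ w₀) / pB Q w₀ w₀ with hα
    have h1 : ∀ x, pB Q x r = α * pB Q x u := fun x => by
      have h2 := key w₀ w₀ (hw₀ 0) (hw₀ 1) (hw₀ 0) (hw₀ 1) x
      rw [hα, div_mul_eq_mul_div, eq_div_iff hB0]
      linear_combination -h2
    refine ⟨α, fun x => (hr' x).trans (h1 x), fun w w' hw hw' => ?_⟩
    obtain ⟨x, hx⟩ := S.exists_values (v := ![u]) (by simp [linearIndependent_unique_iff, hu0]) ![1]
    have h2 := key w w' hw (by rw [h1, hw, mul_zero]) hw' (by rw [h1, hw', mul_zero]) x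
    rw [h1, show pB Q x u = 1 from hx 0] at h2
    linear_combination h2
  obtain ⟨u, hu0, hu, hu'⟩ := exists_common_singular S γ
  obtain ⟨α, hαu, hαw⟩ := hP u hu0 hu hu'
  have hQw : ∀ w, pB Q w u = 0 → Q (γ w) = α * Q w := fun w hw => by
    have := hαw w w hw hw
    rw [S.pB_self, S.pB_self] at this
    exact mul_left_cancel₀ S.two_ne (by linear_combination this)
  have hsing : ∀ v, pB Q v u = 0 → Q v = 0 → ∀ x, pB Q (γ x) (γ v) = α * pB Q x v := by
    intro v hvu hv x
    rcases eq_or_ne v 0 with rfl | hv0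
    · simp
    obtain ⟨β, hβu, hβw⟩ := hP v hv0 hv (by rw [hQw v hvu, hv, mul_zero])
    obtain ⟨w₀, hw₀, hw₀Q⟩ := S.exists_aniso_perp ![u, v] (by omega)
    have e1 := hαw w₀ w₀ (hw₀ 0) (hw₀ 0)
    rw [hβw w₀ w₀ (hw₀ 1) (hw₀ 1), S.pB_self] at e1
    rw [hβu, mul_right_cancel₀ (mul_ne_zero S.two_ne hw₀Q) e1]
  have hperp : ∀ v, pB Q v u = 0 → ∀ x, pB Q (γ x) (γ v) = α * pB Q x v := by
    intro v hvu x
    by_cases hv : v ∈ Submodule.span F {u}
    · obtain ⟨s, rfl⟩ := Submodule.mem_span_singleton.1 hv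
      rw [map_smul, map_smul, map_smul, hαu, smul_eq_mul, smul_eq_mul]; ring
    obtain ⟨v₁, hv₁, hv₁'⟩ := S.exists_sing_values (sing_indep_pair S hu0 hv) (by omega) ![Q v, 0]
    have e1 := hsing v₁ (hv₁' 1) hv₁ x
    have e2 := hsing (v - v₁) (by simp [hvu, show pB Q v₁ u = 0 from hv₁' 1]) (by
      rw [sub_eq_add_neg, S.quad_add, QuadraticMap.map_neg, hv₁, map_neg, S.pB_comm v v₁,
        show pB Q v₁ v = Q v from hv₁' 0]; ring) x
    rw [map_sub, map_sub, map_sub, e1] at e2
    linear_combination e2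
  have hquad : ∀ x, Q (γ x) = α * Q x := by
    intro x
    obtain ⟨c, hcu, -, hc⟩ := S.exists_perp_not_mem u u (Submodule.span F {u})
      (by rw [finrank_span_singleton hu0]; omega)
    obtain ⟨u₁, hu₁, hu₁'⟩ := S.exists_sing_values (sing_indep_pair S hu0 hc) (by omega) ![1, 0]
    have hu₁u : pB Q u₁ u = 0 := hu₁' 1
    have hu₁s : u₁ ∉ Submodule.span F {u} := fun hs => by
      obtain ⟨s, rfl⟩ := Submodule.mem_span_singleton.1 hs
      have := hu₁' 0
      simp [S.pB_comm u c, hcu] at this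
    have hu₁0 : u₁ ≠ 0 := fun e => hu₁s (e ▸ Submodule.zero_mem _)
    obtain ⟨β, hβu, hβw⟩ := hP u₁ hu₁0 hu₁ (by rw [hQw u₁ hu₁u, hu₁, mul_zero])
    obtain ⟨w₀, hw₀, hw₀Q⟩ := S.exists_aniso_perp ![u, u₁] (by omega)
    have hβ : β = α := by
      have e1 := hαw w₀ w₀ (hw₀ 0) (hw₀ 0)
      rw [hβw w₀ w₀ (hw₀ 1) (hw₀ 1), S.pB_self] at e1
      exact mul_right_cancel₀ (mul_ne_zero S.two_ne hw₀Q) e1
    obtain ⟨z, hz⟩ := S.exists_values (sing_indep_pair S hu0 hu₁s) ![0, 1]
    have hzz : Q (γ z) = α * Q z := by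
      have := hβw z z (hz 0) (hz 0)
      rw [S.pB_self, S.pB_self, hβ] at this
      exact mul_left_cancel₀ S.two_ne (by linear_combination this)
    have hwu : pB Q (x - pB Q x u • z) u = 0 := by
      simp [show pB Q z u = 1 from hz 1]
    have hx : x = (x - pB Q x u • z) + pB Q x u • z := (sub_add_cancel _ _).symm
    conv_lhs => rw [hx]
    rw [map_add, map_smul, S.quad_add, S.quad_smul, hQw _ hwu, hzz, map_smul, smul_eq_mul,
      S.pB_comm (γ _) (γ z), hperp _ hwu z]
    conv_rhs => rw [hx]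
    rw [S.quad_add, S.quad_smul, map_smul, smul_eq_mul, S.pB_comm z]
    ring
  have hα0 : α ≠ 0 := fun e => by
    obtain ⟨v, -, hv⟩ := S.exists_aniso_perp (![] : Fin 0 → ι → F) (by omega)
    obtain ⟨x, hx⟩ := γ.surjective v
    rw [← hx, hquad, e, zero_mul] at hv
    exact hv rfl
  have hinv : g⁻¹ ∈ Cfsg.Geo.quadSimilarityGroup ⇑Q := ⟨Units.mk0 α hα0, hquad⟩
  simpa using Subgroup.inv_mem _ hinv

end Cfsg.Agent.SLSmall
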