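import Cfsg.Agent.Lib.SLSmall.Subfield
import Cfsg.Agent.Lib.SLSmall.OrthSim
import Cfsg.Agent.Lib.TransvMax.SubspaceSL
import Cfsg.Agent.Lib.TransvMax.WreathSL
import Cfsg.Agent.Lib.TransvMax.SympSim
import Cfsg.Agent.Lib.TransvMax.UnitarySim
import Cfsg.Agent.Lib.ExtFieldMax.Main
import Cfsg.Agent.Lib.ExtFieldMax.TensorMain

/-!
Geometric subgroups of special linear groups of dimension six to twelve.
-/

set_option autoImplicit false

namespace Cfsg.Agent.SLSmall

open Cfsg

theorem quadSimilarity_maximal {F : Type*} [Field F] [Fintype F] (n : ℕ) (hn : 6 ≤ n) (hodd : Odd (Fintype.card F)) (Q : (Fin n → F) → F) (hQ : Cfsg.Geo.IsNondegenerateQuadraticForm Q) : Cfsg.Geo.IsMaximalIn (Cfsg.Geo.specialLinear (Fin n) F) (Cfsg.Geo.quadSimilarityGroup Q ⊓ Cfsg.Geo.specialLinear (Fin n) F) := by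
  classical
  let QF : QuadraticForm F (Fin n → F) := QuadraticMap.ofPolar Q
    (fun a x => by rw [hQ.smul, smul_eq_mul, pow_two])
    (fun x x' y => hQ.polar_bilinear.add_left x x' y)
    (fun a x y => hQ.polar_bilinear.smul_left a x y)
  have S : Cfsg.Agent.SLSmall.OSetTen QF := by
    refine ⟨fun h => ?_, ⟨fun v hv => ?_, fun v hv => ?_⟩, by rw [Fintype.card_fin]; omega⟩
    · exact Nat.not_even_iff_odd.2 hodd (Nat.even_iff.2 (FiniteField.even_card_iff_char_two.1 h))
    · by_contra h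
      obtain ⟨x, hx⟩ := (hQ.nondegenerate v h).2
      exact hx (hv x)
    · by_contra h
      obtain ⟨x, hx⟩ := (hQ.nondegenerate v h).1
      exact hx (hv x)
  exact Cfsg.Agent.SLSmall.quadSim_maximal S


end Cfsg.Agent.SLSmall
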