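import Cfsg.Agent.Lib.TransvMax.Basic
import Cfsg.Agent.Lib.Forms.Orth

/-!
Quadratic forms in odd characteristic on a space of dimension at least six: singular vectors with
prescribed values, Siegel transformations.
-/

set_option autoImplicit false

namespace Cfsg.Agent.SLSmall

open scoped Matrix MatrixGroups
open Cfsg.Agent Cfsg.Agent.TransvMax

variable {ι : Type} [Fintype ι] [DecidableEq ι] {F : Type*} [Field F]
  {Q : QuadraticForm F (ι → F)}

/-- Odd characteristic, non-degenerate polar form, dimension at least six. -/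
structure OSetTen (Q : QuadraticForm F (ι → F)) : Prop where
  odd : ringChar F ≠ 2
  nondeg : (QuadraticMap.polarBilin Q).Nondegenerate
  dim : 6 ≤ Fintype.card ι

/-- The polar bilinear form. -/
noncomputable abbrev pB (Q : QuadraticForm F (ι → F)) : LinearMap.BilinForm F (ι → F) :=
  QuadraticMap.polarBilin Q

theorem OSetTen.two_ne (S : OSetTen Q) : (2 : F) ≠ 0 := Ring.two_ne_zero S.odd

theorem OSetTen.pB_self (_S : OSetTen Q) (x : ι → F) : pB Q x x = 2 * Q x := by
  rw [QuadraticMap.polarBilin_apply_apply, FormsLib.polar_self']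

theorem OSetTen.pB_comm (_S : OSetTen Q) (x y : ι → F) : pB Q x y = pB Q y x := by
  simp only [QuadraticMap.polarBilin_apply_apply, QuadraticMap.polar_comm Q x y]

theorem OSetTen.quad_add (_S : OSetTen Q) (x y : ι → F) : Q (x + y) = Q x + Q y + pB Q x y := by
  rw [QuadraticMap.polarBilin_apply_apply, FormsLib.quad_add]

theorem OSetTen.quad_smul (_S : OSetTen Q) (c : F) (x : ι → F) : Q (c • x) = c * c * Q x := by
  rw [QuadraticMap.map_smul, smul_eq_mul]

theorem OSetTen.eq_of_forall (S : OSetTen Q) {v w : ι → F} (h : ∀ x, pB Q x v = pB Q x w) : v = w := by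
  rw [← sub_eq_zero]
  exact S.nondeg.2 _ fun x => by rw [map_sub, h x, sub_self]

theorem OSetTen.exists_values (S : OSetTen Q) {k : ℕ} {v : Fin k → ι → F}
    (hv : LinearIndependent F v) (α : Fin k → F) : ∃ x, ∀ i, pB Q x (v i) = α i := by
  let L : (ι → F) →ₗ[F] (Fin k → F) := LinearMap.pi fun i => (pB Q).flip (v i)
  have hL : LinearMap.range L = ⊤ := by
    by_contra hne
    obtain ⟨ψ, hψ0, hψ⟩ := Submodule.exists_le_ker_of_lt_top _ (lt_top_iff_ne_top.2 hne)
    have hsum : ∑ i, ψ (Pi.single i 1) • v i = 0 := by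
      refine S.eq_of_forall fun x => ?_
      have h1 : ψ (L x) = 0 := hψ ⟨x, rfl⟩
      rw [pi_eq_sum_univ' (L x), map_sum] at h1
      rw [map_zero, ← h1, map_sum]
      refine Finset.sum_congr rfl fun i _ => ?_
      rw [map_smul, map_smul, smul_eq_mul, smul_eq_mul, mul_comm]
      rfl
    refine hψ0 (LinearMap.ext fun y => ?_)
    rw [pi_eq_sum_univ' y, map_sum, LinearMap.zero_apply]
    refine Finset.sum_eq_zero fun i _ => ?_
    rw [map_smul, Fintype.linearIndependent_iff.1 hv _ hsum i, smul_zero]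
  obtain ⟨x, hx⟩ := LinearMap.range_eq_top.1 hL α
  exact ⟨x, fun i => congrFun hx i⟩

theorem OSetTen.finrank_ker_ge (_S : OSetTen Q) {k : ℕ} (v : Fin k → ι → F) :
    Fintype.card ι ≤
      Module.finrank F (LinearMap.ker (LinearMap.pi fun i => (pB Q).flip (v i))) + k := by
  set L : (ι → F) →ₗ[F] (Fin k → F) := LinearMap.pi fun i => (pB Q).flip (v i)
  have h3 := LinearMap.finrank_range_add_finrank_ker L
  have h4 := Submodule.finrank_le (LinearMap.range L)
  rw [Module.finrank_fintype_fun_eq_card, Fintype.card_fin] at h4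
  rw [Module.finrank_fintype_fun_eq_card] at h3
  omega

theorem OSetTen.exists_aniso_perp (S : OSetTen Q) {k : ℕ} (v : Fin k → ι → F) (hk : k ≤ 2) :
    ∃ p, (∀ i, pB Q p (v i) = 0) ∧ Q p ≠ 0 := by
  by_contra hc
  push Not at hc
  set L : (ι → F) →ₗ[F] (Fin k → F) := LinearMap.pi fun i => (pB Q).flip (v i)
  have hQ : ∀ p ∈ LinearMap.ker L, Q p = 0 := fun p hp => hc p fun i => congrFun hp i
  have h1 : LinearMap.ker L ≤ LinearMap.BilinForm.orthogonal (pB Q) (LinearMap.ker L) := by
    intro x hx y hy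
    show pB Q y x = 0
    have h := S.quad_add y x
    rw [hQ _ (Submodule.add_mem _ hy hx), hQ _ hy, hQ _ hx] at h
    linear_combination -h
  have h2 := Submodule.finrank_mono h1
  rw [LinearMap.BilinForm.finrank_orthogonal S.nondeg, Module.finrank_fintype_fun_eq_card] at h2
  have h3 : Fintype.card ι ≤ Module.finrank F (LinearMap.ker L) + k := S.finrank_ker_ge v
  have := S.dim
  omega

theorem OSetTen.exists_aniso_perp_of_aniso (S : OSetTen Q) {k : ℕ} (v : Fin k → ι → F) (hk : k ≤ 3) {q : ι → F} (hq : ∃ i, v i = q) (hQq : Q q ≠ 0) :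
    ∃ p, (∀ i, pB Q p (v i) = 0) ∧ Q p ≠ 0 := by
  by_contra hc
  push Not at hc
  set L : (ι → F) →ₗ[F] (Fin k → F) := LinearMap.pi fun i => (pB Q).flip (v i)
  have hQ : ∀ p ∈ LinearMap.ker L, Q p = 0 := fun p hp => hc p fun i => congrFun hp i
  have h1 : LinearMap.ker L ≤ LinearMap.BilinForm.orthogonal (pB Q) (LinearMap.ker L) := by
    intro x hx y hy
    show pB Q y x = 0
    have h := S.quad_add y x
    rw [hQ _ (Submodule.add_mem _ hy hx), hQ _ hy, hQ _ hx] at h
    linear_combination -h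
  have h2 := Submodule.finrank_mono h1
  rw [LinearMap.BilinForm.finrank_orthogonal S.nondeg, Module.finrank_fintype_fun_eq_card] at h2
  have h3 : Fintype.card ι ≤ Module.finrank F (LinearMap.ker L) + k := S.finrank_ker_ge v
  have := S.dim
  have heq : LinearMap.ker L = LinearMap.BilinForm.orthogonal (pB Q) (LinearMap.ker L) :=
    Submodule.eq_of_le_of_finrank_le h1 (by
      rw [LinearMap.BilinForm.finrank_orthogonal S.nondeg, Module.finrank_fintype_fun_eq_card]; omega)
  obtain ⟨i, hi⟩ := hq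
  refine hQq (hQ q ?_)
  rw [heq]
  intro x hx
  show pB Q x q = 0
  rw [← hi]
  exact congrFun (LinearMap.mem_ker.1 hx) i

theorem OSetTen.exists_aniso_perp_pair (S : OSetTen Q) {k : ℕ} (v : Fin k → ι → F) (hk : k ≤ 3) (i j : Fin k)
    (hij : pB Q (v i) (v j) ≠ 0) : ∃ p, (∀ i, pB Q p (v i) = 0) ∧ Q p ≠ 0 := by
  by_contra hc
  push Not at hc
  set L : (ι → F) →ₗ[F] (Fin k → F) := LinearMap.pi fun i => (pB Q).flip (v i)
  have hQ : ∀ p ∈ LinearMap.ker L, Q p = 0 := fun p hp => hc p fun i => congrFun hp i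
  have h1 : LinearMap.ker L ≤ LinearMap.BilinForm.orthogonal (pB Q) (LinearMap.ker L) := by
    intro x hx y hy
    show pB Q y x = 0
    have h := S.quad_add y x
    rw [hQ _ (Submodule.add_mem _ hy hx), hQ _ hy, hQ _ hx] at h
    linear_combination -h
  have h3 : Fintype.card ι ≤ Module.finrank F (LinearMap.ker L) + k := S.finrank_ker_ge v
  have := S.dim
  have heq : LinearMap.ker L = LinearMap.BilinForm.orthogonal (pB Q) (LinearMap.ker L) :=
    Submodule.eq_of_le_of_finrank_le h1 (by
      rw [LinearMap.BilinForm.finrank_orthogonal S.nondeg, Module.finrank_fintype_fun_eq_card]; omega)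
  have hmem : v i ∈ LinearMap.ker L := by
    rw [heq]
    intro x hx
    exact congrFun (LinearMap.mem_ker.1 hx) i
  exact hij (congrFun (LinearMap.mem_ker.1 hmem) j)

theorem OSetTen.exists_perp_not_mem (S : OSetTen Q) (a b : ι → F) (W : Submodule F (ι → F))
    (hW : Module.finrank F W ≤ 3) : ∃ c, pB Q c a = 0 ∧ pB Q c b = 0 ∧ c ∉ W := by
  by_contra hc
  push Not at hc
  have hle : LinearMap.ker (LinearMap.pi fun i => (pB Q).flip (![a, b] i)) ≤ W := fun c hcc =>
    hc c (congrFun hcc 0) (congrFun hcc 1)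
  have h1 := Submodule.finrank_mono hle
  have h2 := S.finrank_ker_ge ![a, b]
  have := S.dim
  omega

/-- Binary forms with non-zero coefficients represent everything. -/
theorem OSetTen.exists_binary [Finite F] (S : OSetTen Q) {a b : F} (ha : a ≠ 0) (hb : b ≠ 0) (c : F) :
    ∃ s t : F, a * (s * s) + b * (t * t) = c := by
  have := Fintype.ofFinite F
  obtain ⟨s, t, h⟩ := FiniteField.exists_root_sum_quadratic
    (f := Polynomial.C a * Polynomial.X ^ 2)
    (g := Polynomial.C b * Polynomial.X ^ 2 + Polynomial.C (-c))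
    (by rw [Polynomial.degree_C_mul_X_pow 2 ha]; rfl)
    (by rw [Polynomial.degree_add_C (by rw [Polynomial.degree_C_mul_X_pow 2 hb]; decide),
          Polynomial.degree_C_mul_X_pow 2 hb]; rfl)
    (Nat.odd_iff.1 (Nat.odd_iff.mpr (FiniteField.odd_card_of_char_ne_two S.odd)))
  refine ⟨s, t, ?_⟩
  simp only [Polynomial.eval_add, Polynomial.eval_mul, Polynomial.eval_C, Polynomial.eval_pow,
    Polynomial.eval_X] at h
  linear_combination h

/-- A singular vector with prescribed values on a few independent vectors. -/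
theorem OSetTen.exists_sing_values [Finite F] (S : OSetTen Q) {k : ℕ} {v : Fin k → ι → F}
    (hv : LinearIndependent F v) (hk : k ≤ 2) (α : Fin k → F) :
    ∃ x, Q x = 0 ∧ ∀ i, pB Q x (v i) = α i := by
  obtain ⟨x₁, hx₁⟩ := S.exists_values hv α
  obtain ⟨p, hp, hQp⟩ := S.exists_aniso_perp v hk
  obtain ⟨r, hr, hQr⟩ := S.exists_aniso_perp_of_aniso (Fin.cons p v) (by omega) ⟨0, rfl⟩ hQp
  have hrp : pB Q r p = 0 := by simpa using hr 0
  have hpp : pB Q p p ≠ 0 := by rw [S.pB_self]; exact mul_ne_zero S.two_ne hQp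
  have hrr : pB Q r r ≠ 0 := by rw [S.pB_self]; exact mul_ne_zero S.two_ne hQr
  obtain ⟨x₀, hx₀e⟩ : ∃ x₀, x₀ = x₁ - (pB Q x₁ p / pB Q p p) • p - (pB Q x₁ r / pB Q r r) • r := ⟨_, rfl⟩
  have hpx : pB Q x₀ p = 0 := by
    rw [hx₀e]
    simp only [map_sub, map_smul, LinearMap.sub_apply, LinearMap.smul_apply, smul_eq_mul, hrp,
      div_mul_cancel₀ _ hpp]
    ring
  have hrx : pB Q x₀ r = 0 := by
    rw [hx₀e]
    simp only [map_sub, map_smul, LinearMap.sub_apply, LinearMap.smul_apply, smul_eq_mul,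
      S.pB_comm p r, hrp, div_mul_cancel₀ _ hrr]
    ring
  obtain ⟨s, t, hst⟩ := S.exists_binary hQp hQr (-Q x₀)
  refine ⟨x₀ + (s • p + t • r), ?_, fun i => ?_⟩
  · simp only [S.quad_add, S.quad_smul, map_add, map_smul, LinearMap.add_apply, LinearMap.smul_apply,
      smul_eq_mul, S.pB_comm p r, hpx, hrx, hrp, mul_zero, add_zero]
    linear_combination hst
  · have h1 : pB Q p (v i) = 0 := hp i
    have h2 : pB Q r (v i) = 0 := by simpa using hr i.succ
    simp only [hx₀e, map_add, map_sub, map_smul, LinearMap.add_apply, LinearMap.sub_apply, LinearMap.smul_apply,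
      h1, h2, smul_zero, add_zero, sub_zero, hx₁]

/-- The map `x ↦ x + f(x,u) w - f(x,w) u - Q(w) f(x,u) u`. -/
noncomputable def siegelHom (Q : QuadraticForm F (ι → F)) (u w : ι → F) : (ι → F) →ₗ[F] (ι → F) :=
  LinearMap.id + ((pB Q).flip u).smulRight w - ((pB Q).flip w).smulRight u -
    (Q w • (pB Q).flip u).smulRight u

theorem siegelHom_apply (u w x : ι → F) :
    siegelHom Q u w x = x + pB Q x u • w - pB Q x w • u - (Q w * pB Q x u) • u := by
  simp [siegelHom]

theorem OSetTen.siegelHom_siegelHom (S : OSetTen Q) {u w w' : ι → F} (hu : Q u = 0)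
    (hw : pB Q w u = 0) (hw' : pB Q w' u = 0) (x : ι → F) :
    siegelHom Q u w (siegelHom Q u w' x) = siegelHom Q u (w + w') x := by
  have huu : pB Q u u = 0 := by rw [S.pB_self, hu, mul_zero]
  have huw : pB Q u w = 0 := by rw [S.pB_comm, hw]
  simp only [siegelHom_apply, map_add, map_sub, map_smul, LinearMap.add_apply, LinearMap.sub_apply,
    LinearMap.smul_apply, smul_eq_mul, hw', huu, huw, S.quad_add, S.pB_comm w' w, mul_zero, add_zero,
    sub_zero]
  module

theorem OSetTen.siegelHom_zero (_S : OSetTen Q) (u x : ι → F) : siegelHom Q u 0 x = x := by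
  simp [siegelHom_apply]

/-- The Siegel transformation as an automorphism. -/
noncomputable def OSetTen.siegel (S : OSetTen Q) (u w : ι → F) (hu : Q u = 0) (hw : pB Q w u = 0) :
    (ι → F) ≃ₗ[F] (ι → F) :=
  LinearEquiv.ofLinearMap (siegelHom Q u w) (siegelHom Q u (-w))
    (LinearMap.ext fun x => by
      rw [LinearMap.comp_apply, S.siegelHom_siegelHom hu hw (by simpa using hw), add_neg_cancel,
        S.siegelHom_zero]
      rfl)
    (LinearMap.ext fun x => by
      rw [LinearMap.comp_apply, S.siegelHom_siegelHom hu (by simpa using hw) hw, neg_add_cancel,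
        S.siegelHom_zero]
      rfl)

theorem OSetTen.siegel_apply (S : OSetTen Q) {u w : ι → F} (hu : Q u = 0) (hw : pB Q w u = 0)
    (x : ι → F) : S.siegel u w hu hw x = siegelHom Q u w x := rfl

theorem OSetTen.siegel_quad (S : OSetTen Q) {u w : ι → F} (hu : Q u = 0) (hw : pB Q w u = 0)
    (x : ι → F) : Q (S.siegel u w hu hw x) = Q x := by
  have huu : pB Q u u = 0 := by rw [S.pB_self, hu, mul_zero]
  rw [S.siegel_apply, siegelHom_apply, sub_sub, ← add_smul, sub_eq_add_neg, ← neg_smul, S.quad_add,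
    S.quad_add, S.quad_smul, S.quad_smul, map_smul, map_smul, map_add, LinearMap.add_apply,
    map_smul, LinearMap.smul_apply, hu, hw]
  simp only [smul_eq_mul]
  ring

theorem OSetTen.siegel_pow (S : OSetTen Q) {u w : ι → F} (hu : Q u = 0) (hw : pB Q w u = 0) (n : ℕ)
    (x : ι → F) : ((S.siegel u w hu hw) ^ n) x = siegelHom Q u ((n : F) • w) x := by
  induction n generalizing x with
  | zero => rw [pow_zero, Nat.cast_zero, zero_smul, S.siegelHom_zero]; rfl
  | succ n ih =>
    rw [pow_succ, LinearEquiv.mul_apply, ih, S.siegel_apply, S.siegelHom_siegelHom hu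
      (by rw [map_smul, LinearMap.smul_apply, hw, smul_zero]) hw, Nat.cast_succ, add_smul, one_smul]

/-- Siegel transformations are similarities of determinant one. -/
theorem OSetTen.glOf_siegel_mem [Finite F] (S : OSetTen Q) {u w : ι → F} (hu : Q u = 0)
    (hw : pB Q w u = 0) :
    glOf (S.siegel u w hu hw) ∈ Cfsg.Geo.quadSimilarityGroup ⇑Q ⊓ Cfsg.Geo.specialLinear ι F := by
  refine ⟨⟨1, fun v => by rw [glOf_mulVec, S.siegel_quad, Units.val_one, one_mul]⟩, ?_⟩
  show glOf (S.siegel u w hu hw) ∈ MonoidHom.ker _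
  rw [MonoidHom.mem_ker]
  obtain ⟨p, hp⟩ := CharP.exists F
  have hpp : p.Prime := CharP.char_is_prime F p
  haveI := Fact.mk hpp
  have h1 : (S.siegel u w hu hw) ^ p = 1 := LinearEquiv.ext fun x => by
    rw [S.siegel_pow, CharP.cast_eq_zero, zero_smul, S.siegelHom_zero]
    rfl
  set d := Matrix.GeneralLinearGroup.det (glOf (S.siegel u w hu hw))
  have h2 : d ^ p = 1 := by rw [← map_pow, ← map_pow, h1, map_one, map_one]
  have h3 : ((d : F) - 1) ^ p = 0 := by
    rw [sub_pow_char, one_pow, ← Units.val_pow_eq_pow_val, h2, Units.val_one, sub_self]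
  exact Units.ext (sub_eq_zero.1 (pow_eq_zero_iff hpp.ne_zero |>.1 h3))

end Cfsg.Agent.SLSmall
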