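import Cfsg.Agent.Lib.TransvMax.SubfieldSL
import Cfsg.Prelude.Def_GeometricClasses

/-!
The subfield group is maximal in the special linear group of dimension at least four.
-/

set_option autoImplicit false

namespace Cfsg.Agent.SLSmall

open Cfsg.Agent Cfsg.Agent.TransvMax
open scoped Matrix MatrixGroups

theorem subfield_maximal {F : Type*} [Field F] [Fintype F] (n : ℕ) (hn : 4 ≤ n) (F₀ : Subfield F) (r : ℕ) (hr : r.Prime) (hcard : Fintype.card F = Nat.card F₀ ^ r) (P : Matrix.GeneralLinearGroup (Fin n) F) : Cfsg.Geo.IsMaximalIn (Cfsg.Geo.specialLinear (Fin n) F) (Cfsg.Geo.subfieldSubgroup F₀ P ⊓ Cfsg.Geo.specialLinear (Fin n) F) := by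
  classical
  haveI := Fintype.ofFinite F₀
  have hR : ∀ y, ratEmb F₀ P y = (P : Matrix (Fin n) (Fin n) F) *ᵥ cv F₀ y := fun y => rfl
  let i₀ : Fin n := ⟨0, by omega⟩
  let i₁ : Fin n := ⟨1, by omega⟩
  have h10 : i₁ ≠ i₀ := fun e => by simpa [i₀, i₁] using congrArg Fin.val e
  obtain ⟨ρ, hρ⟩ : ∃ ρ : F, ρ ∉ F₀ := by
    by_contra h
    push Not at h
    have hbij : Function.Bijective (Subtype.val : F₀ → F) :=
      ⟨Subtype.val_injective, fun x => ⟨⟨x, h x⟩, rfl⟩⟩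
    have h1 := Nat.card_eq_of_bijective _ hbij
    rw [Nat.card_eq_fintype_card (α := F), hcard] at h1
    have h2 : 1 < Nat.card F₀ := Finite.one_lt_card
    have h3 := Nat.pow_lt_pow_right h2 hr.one_lt
    rw [pow_one] at h3
    omega
  refine ⟨lt_of_le_of_ne inf_le_right fun e => hρ ?_, fun K hHK hK => ?_⟩
  · -- a transvection with an irrational coefficient
    have h0 : (Pi.single i₁ ρ : Fin n → F) ⬝ᵥ Pi.single i₀ 1 = 0 := by
      simp [Pi.single_eq_of_ne h10, Pi.single_eq_of_ne h10.symm]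
    set T := trv (Pi.single i₀ (1 : F)) (Pi.single i₁ ρ) h0
    have hT : P * T * P⁻¹ ∈ Cfsg.Geo.specialLinear (Fin n) F := by
      have hT' := trv_mem_specialLinear _ _ h0
      rw [Cfsg.Geo.specialLinear, MonoidHom.mem_ker] at hT' ⊢
      rw [map_mul, map_mul, hT', mul_one, ← map_mul, mul_inv_cancel, map_one]
    rw [← e] at hT
    obtain ⟨c, hc, h⟩ := (mem_subfieldSubgroup_iff F₀ P _).1 hT.1
    have key : ∀ y, ∃ y', c • ((T : Matrix (Fin n) (Fin n) F) *ᵥ cv F₀ y) = cv F₀ y' := fun y => by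
      obtain ⟨y', hy'⟩ := h y
      refine ⟨y', ?_⟩
      rw [hR, hR, Units.val_mul, Units.val_mul, ← Matrix.mulVec_mulVec, inv_mulVec_mulVec,
        ← Matrix.mulVec_mulVec, ← Matrix.mulVec_smul] at hy'
      have h1 := congrArg (((P⁻¹ : GL (Fin n) F) : Matrix (Fin n) (Fin n) F) *ᵥ ·) hy'
      simpa only [inv_mulVec_mulVec] using h1
    obtain ⟨y₀, hy₀⟩ := key (Pi.single i₀ 1)
    obtain ⟨y₁, hy₁⟩ := key (Pi.single i₁ 1)
    have e0 := congrFun hy₀ i₀
    have e1 := congrFun hy₁ i₀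
    simp only [T, cv_single, trv_mulVec] at e0 e1
    simp [Pi.single_eq_of_ne h10, Pi.single_eq_of_ne h10.symm, cv_apply] at e0 e1
    rw [show ρ = (y₁ i₀ : F) / (y₀ i₀ : F) by rw [← e0, ← e1]; field_simp]
    exact F₀.div_mem (SetLike.coe_mem _) (SetLike.coe_mem _)
  rcases hHK.eq_or_lt with e | hlt
  · exact Or.inl e.symm
  refine Or.inr (le_antisymm hK ?_)
  obtain ⟨g, hgK, hgH⟩ := SetLike.exists_of_lt hlt
  have hg' : ¬ ∀ y : Fin n → F₀, y ≠ 0 → ∃ c : F, c ≠ 0 ∧ ∃ y',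
      c • ((g : Matrix (Fin n) (Fin n) F) *ᵥ ratEmb F₀ P y) = ratEmb F₀ P y' :=
    fun h => hgH ⟨mem_subfieldSubgroup_of_points F₀ P g h, hK hgK⟩
  push Not at hg'
  obtain ⟨y, hy, hy'⟩ := hg'
  let K' := K.comap (MulAut.conj P).toMonoidHom
  have hmain : Cfsg.Geo.specialLinear (Fin n) F ≤ K' := by
    refine specialLinear_le_of_over_subfield hr hcard (by rw [Fintype.card_fin]; omega)
      (fun u ψ h => ?_) (g := P⁻¹ * g * P) ?_ hy ?_
    · show P * trv (cv F₀ u) (cv F₀ ψ) h * P⁻¹ ∈ K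
      refine hHK ⟨(mem_subfieldSubgroup_iff F₀ P _).2 ⟨1, one_ne_zero, fun z =>
        ⟨z + (ψ ⬝ᵥ z) • u, ?_⟩⟩, ?_⟩
      · rw [hR, hR, one_smul, Units.val_mul, Units.val_mul, ← Matrix.mulVec_mulVec, inv_mulVec_mulVec,
          ← Matrix.mulVec_mulVec, trv_mulVec, cv_add, cv_smul, cv_dot]
      · have hT := trv_mem_specialLinear _ _ h
        show P * trv (cv F₀ u) (cv F₀ ψ) h * P⁻¹ ∈ Cfsg.Geo.specialLinear (Fin n) F
        rw [Cfsg.Geo.specialLinear, MonoidHom.mem_ker] at hT ⊢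
        rw [map_mul, map_mul, hT, mul_one, ← map_mul, mul_inv_cancel, map_one]
    · show P * (P⁻¹ * g * P) * P⁻¹ ∈ K
      simpa [mul_assoc] using hgK
    · intro c hc y' e
      refine hy' c hc y' ?_
      rw [hR, hR, ← e, Matrix.mulVec_smul, Matrix.mulVec_mulVec, Matrix.mulVec_mulVec,
        ← Units.val_mul, ← Units.val_mul, ← mul_assoc, ← mul_assoc, mul_inv_cancel, one_mul]
  intro x hx
  have h1 : P⁻¹ * x * P ∈ K' := hmain (by
    rw [Cfsg.Geo.specialLinear, MonoidHom.mem_ker] at hx ⊢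
    rw [map_mul, map_mul, hx, mul_one, ← map_mul, inv_mul_cancel, map_one])
  have h2 : P * (P⁻¹ * x * P) * P⁻¹ ∈ K := h1
  simpa [mul_assoc] using h2

end Cfsg.Agent.SLSmall
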